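import Groth.Agent.PerfMor.Mor
import Groth.Agent.DRingPC.LCI
import Groth.Agent.DRingPC.Finite
import Groth.Agent.K0Koszul.Basic
import Groth.Prelude.Def_RegImm
import Mathlib.AlgebraicGeometry.Morphisms.ClosedImmersion
import Mathlib.AlgebraicGeometry.Morphisms.Smooth

/-!
Surjective and finite ring maps; regular immersions.
-/

set_option autoImplicit false
set_option linter.style.haveILetI false
universe u

open CategoryTheory CategoryTheory.Limits AlgebraicGeometry Groth.Agent.PCohLib Groth.Agent.DRingPC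

attribute [local instance] HasDerivedCategory.standard

namespace Groth.Agent.PerfMor

variable {A B C : Type u} [CommRing A] [CommRing B] [CommRing C]

/-- The presentation without variables. -/
lemma perfRing_of_surjective {f : A →+* B} (hf : Function.Surjective f) (h : PerfModHom f) : PerfRing f := by
  let e := (MvPolynomial.isEmptyAlgEquiv A (Fin 0)).toRingEquiv
  refine (perfRing_iff f).2 ⟨0, f.comp e.toRingHom, hf.comp e.surjective, RingHom.ext fun a => ?_,
    (PerfModHom.of_bijective _ e.bijective).comp h⟩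
  exact congrArg f ((MvPolynomial.isEmptyAlgEquiv A (Fin 0)).commutes a)

lemma perfModHom_of_koszul {f : A →+* B} (hf : Function.Surjective f) {l : List A}
    (hl : LCI.IsKoszulRegularSeq A l) (hk : RingHom.ker f = Ideal.ofList l) : PerfModHom f := by
  letI := f.toAlgebra
  let e : (A ⧸ Ideal.ofList l) ≃ₗ[A] B :=
    (Ideal.quotientEquivAlgOfEq A hk.symm).toLinearEquiv.trans
      (Ideal.quotientKerAlgEquivOfSurjective (f := Algebra.ofId A B) hf).toLinearEquiv
  exact PerfModHom.of_algebra.2 (isPerfect_of_iso (isPerfectModule_quot hl)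
    ((DerivedCategory.singleFunctor _ 0).mapIso e.toModuleIso))

lemma perfModHom_of_weaklyRegular {f : A →+* B} (hf : Function.Surjective f) {rs : List A}
    (hl : RingTheory.Sequence.IsWeaklyRegular A rs) (hk : RingHom.ker f = Ideal.ofList rs) : PerfModHom f := by
  obtain ⟨e⟩ := K0Koszul.nonempty_koszul_iso rs.reverse (by rwa [List.reverse_reverse])
  letI := f.toAlgebra
  have hI : Ideal.ofList rs.reverse = RingHom.ker f := by
    rw [hk]; exact congrArg Ideal.span (Set.ext fun x => List.mem_reverse)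
  let e' : (A ⧸ Ideal.ofList rs.reverse) ≃ₗ[A] B :=
    (Ideal.quotientEquivAlgOfEq A hI).toLinearEquiv.trans
      (Ideal.quotientKerAlgEquivOfSurjective (f := Algebra.ofId A B) hf).toLinearEquiv
  have hK : DRing.IsPerfect A (DRing.toD (Koszul.koszul A rs.reverse)) :=
    ⟨_, -(rs.reverse.length : ℤ), 0, fun i hi => (subsingleton_iff_isZero _).1
      (KoszulLib.subsingleton_of_outside _ i (by omega)), fun i =>
      haveI := KoszulLib.free rs.reverse i
      ⟨finite_koszulX _ i, Module.Projective.of_free⟩, ⟨Iso.refl _⟩⟩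
  exact PerfModHom.of_algebra.2 (isPerfect_of_iso hK
    (e ≪≫ (DerivedCategory.singleFunctor _ 0).mapIso e'.toModuleIso))

/-- Pseudo-coherence of a finite algebra is pseudo-coherence of the module. -/
theorem pcRing_iff_of_finite [Algebra A B] [Module.Finite A B] :
    PCRing (algebraMap A B) ↔ DRing.IsPseudoCoherentModule' A B := by
  rw [← PCHom.of_algebra]
  obtain ⟨n, φ, hφ⟩ := exists_presentation_ft A B
  have hc : φ.toRingHom.comp MvPolynomial.C = algebraMap A B := RingHom.ext φ.commutes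
  have hmon : ∀ i, ∃ p : Polynomial A, p.Monic ∧
      p.eval₂ (φ.toRingHom.comp MvPolynomial.C) (φ.toRingHom (MvPolynomial.X i)) = 0 := fun i => by
    obtain ⟨q, hq, hq'⟩ := Algebra.IsIntegral.isIntegral (R := A) (φ (MvPolynomial.X i))
    exact ⟨q, hq, by rw [hc]; exact hq'⟩
  have key : ∀ m, NPC (FF (MvPolynomial (Fin n) A)) m ((DRing.restrictD φ.toRingHom).obj
      ((DerivedCategory.singleFunctor _ 0).obj (ModuleCat.of B B))) ↔
      NPC (FF A) m ((DRing.restrictD (algebraMap A B)).obj
      ((DerivedCategory.singleFunctor _ 0).obj (ModuleCat.of B B))) := fun m => by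
    rw [NPC_iff_of_monic _ hmon m _, hc]
  constructor
  · intro h m
    exact NPC.of_iso ((key m).1 (NPC.of_iso (h.pcHom _ hφ hc m) (restrictSingle φ.toRingHom 0 _).symm))
      (restrictSingle _ 0 _)
  · intro h
    refine (pcRing_iff _).2 ⟨n, φ.toRingHom, hφ, hc, fun m => ?_⟩
    exact NPC.of_iso ((key m).2 (NPC.of_iso (h m) (restrictSingle (algebraMap A B) 0 _).symm))
      (restrictSingle _ 0 _)

lemma surjective_app_of_restrict {Z X : Scheme.{u}} (i : Z ⟶ X) {V : X.Opens} (hV : IsAffineOpen V)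
    [IsClosedImmersion (i ∣_ V)] :
    IsAffineOpen (i ⁻¹ᵁ V) ∧ Function.Surjective (i.app V).hom := by
  haveI : IsAffine V.toScheme := hV
  obtain ⟨hA, hs⟩ := IsClosedImmersion.isAffine_surjective_of_isAffine (i ∣_ V)
  refine ⟨hA, ?_⟩
  have e := arrowResLEAppIso i V (i ⁻¹ᵁ V) le_rfl
  have hs' : RingHom.toMorphismProperty (fun {R S : Type u} [CommRing R] [CommRing S] (f : R →+* S) =>
      Function.Surjective f) (i.resLE V (i ⁻¹ᵁ V) le_rfl).appTop := by
    rw [Scheme.Hom.resLE_eq_morphismRestrict]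
    exact hs
  haveI := RingHom.toMorphismProperty_respectsIso_iff.mp RingHom.surjective_respectsIso.{u}
  rw [Scheme.Hom.app_eq_appLE]
  exact (MorphismProperty.arrow_mk_iso_iff _ e).1 hs'

lemma perfMor_of_regularImmersion {Z X : Scheme.{u}} (i : Z ⟶ X)
    (h : ∀ z : Z, ∃ V : X.affineOpens, i z ∈ V.1 ∧ IsClosedImmersion (i ∣_ V.1) ∧ ∃ rs : List Γ(X, V.1),
      (LCI.IsKoszulRegularSeq Γ(X, V.1) rs ∨ RingTheory.Sequence.IsWeaklyRegular Γ(X, V.1) rs) ∧
        RingHom.ker (i.app V.1).hom = Ideal.ofList rs) : PerfMor i := by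
  refine (perfMor_iff_exists i).2 fun z => ?_
  obtain ⟨V, hz, hcl, rs, hrs, hker⟩ := h z
  obtain ⟨hA, hs⟩ := surjective_app_of_restrict i V.2
  refine ⟨V, ⟨i ⁻¹ᵁ V.1, hA⟩, hz, le_rfl, ?_⟩
  rw [← Scheme.Hom.app_eq_appLE]
  refine perfRing_of_surjective hs ?_
  rcases hrs with hrs | hrs
  · exact perfModHom_of_koszul hs hrs hker
  · exact perfModHom_of_weaklyRegular hs hrs hker

theorem perfMor_of_isKoszulAt {X Y : Scheme.{u}} (f : X ⟶ Y) (hf : ∀ x : X, Synt.IsKoszulAt f x) : PerfMor f := by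
  choose U P i π hx hft hi hπ hfac using hf
  rw [IsZariskiLocalAtSource.iff_of_iSup_eq_top (P := PerfMor) (U := U)
    (eq_top_iff.2 fun x _ => TopologicalSpace.Opens.mem_iSup.2 ⟨x, hx x⟩)]
  intro x
  rw [← hfac x]
  have h1 : PerfMor (i x) := perfMor_of_regularImmersion _ fun z => by
    obtain ⟨V, hz, hcl, rs, hrs, hker⟩ := (hi x).2 z
    exact ⟨V, hz, hcl, rs, Or.inl hrs, hker⟩
  haveI := hπ x
  have h2 : PerfMor (π x) := HasRingHomProperty.iff_appLE.2 fun V W e => by
    letI := ((π x).appLE V W e).hom.toAlgebra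
    haveI : Algebra.FinitePresentation Γ(Y, V) Γ(P x, W) := (π x).finitePresentation_appLE V.2 W.2 e
    haveI : Module.Flat Γ(Y, V) Γ(P x, W) := (π x).flat_appLE V.2 W.2 e
    exact isPerfectHom_of_flat_fp _ _
  exact MorphismProperty.comp_mem _ _ _ h1 h2

end Groth.Agent.PerfMor
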