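import Groth.Agent.PerfMor.Descent
import Mathlib.RingTheory.RingHom.FinitePresentation

/-!
Finite presentation and cancellation for pseudo-coherent ring maps.
-/

set_option autoImplicit false
set_option linter.style.haveILetI false
universe u

open CategoryTheory CategoryTheory.Limits Groth.Agent.PCohLib Groth.Agent.DRingPC

attribute [local instance] HasDerivedCategory.standard

namespace Groth.Agent.PerfMor

variable {A B C : Type u} [CommRing A] [CommRing B] [CommRing C]

theorem PCRing.finitePresentation {f : A →+* B} (h : PCRing f) : f.FinitePresentation := by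
  letI := f.toAlgebra
  obtain ⟨n, φ, hφ, hp⟩ := h
  letI := φ.toRingHom.toAlgebra
  haveI : Module.FinitePresentation (MvPolynomial (Fin n) A) B :=
    (NPC_negOne_inD_iff _).1 ((isPCModule'_iff _).1 hp (-1))
  exact Algebra.FinitePresentation.of_surjective hφ
    (Module.FinitePresentation.fg_ker (Algebra.linearMap (MvPolynomial (Fin n) A) B) hφ)

/-- Cancellation. -/
theorem PCRing.of_comp {f : A →+* B} {g : B →+* C} (hf : PCRing f) (hgf : PCRing (g.comp f)) : PCRing g := by
  letI := (g.comp f).toAlgebra
  obtain ⟨n, φ, hφ⟩ := @exists_presentation_ft A C _ _ _ hgf.finiteType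
  let ρ : MvPolynomial (Fin n) B →+* C := MvPolynomial.eval₂Hom g fun i => φ (MvPolynomial.X i)
  have hρ : Function.Surjective ρ := fun c => by
    obtain ⟨p, rfl⟩ := hφ c
    refine ⟨MvPolynomial.map f p, ?_⟩
    show (ρ.comp (MvPolynomial.map f)) p = φ.toRingHom p
    congr 1
    refine MvPolynomial.ringHom_ext (fun a => ?_) (fun i => ?_)
    · show _ = φ (MvPolynomial.C a)
      rw [← MvPolynomial.algebraMap_eq, φ.commutes]
      simp [ρ]
      rfl
    · simp [ρ]
  have hc : ρ.comp MvPolynomial.C = g := RingHom.ext fun b => by simp [ρ]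
  have hsrc : PCRing ((algebraMap B (MvPolynomial (Fin n) B)).comp f) :=
    hf.comp (perfRing_of_flat_fp (A := B) (B := MvPolynomial (Fin n) B)).toPC
  refine (pcRing_iff g).2 ⟨n, ρ, hρ, hc, pcHom_of_surjective hρ hsrc ?_⟩
  rwa [← RingHom.comp_assoc, show ρ.comp (algebraMap B (MvPolynomial (Fin n) B)) = g from hc]

end Groth.Agent.PerfMor
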