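import Groth.Agent.PerfMor.Local
import Mathlib.RingTheory.Finiteness.Descent

/-!
Faithfully flat descent of pseudo-coherent and perfect ring maps.
-/

set_option autoImplicit false
set_option linter.style.haveILetI false
set_option linter.unusedSectionVars false
universe u

open CategoryTheory CategoryTheory.Limits Groth.Agent.PCohLib Groth.Agent.DRingPC
open TensorProduct

attribute [local instance] HasDerivedCategory.standard

namespace Groth.Agent.PerfMor

variable {A B A' B' : Type u} [CommRing A] [CommRing B] [CommRing A'] [CommRing B'] [Algebra A A'] [Algebra A B]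
  [Algebra A' B'] [Algebra B B'] [Algebra A B'] [IsScalarTower A A' B'] [IsScalarTower A B B']
  [Algebra.IsPushout A A' B B']

attribute [local instance] MvPolynomial.algebraMvPolynomial in
lemma descend_pres {n : ℕ} {π : MvPolynomial (Fin n) A →+* B}
    (hc : π.comp MvPolynomial.C = algebraMap A B) [Module.FaithfullyFlat A A'] :
    (PCHom (pushPres (A' := A') (B' := B') π) → PCHom π) ∧
      (PerfModHom (pushPres (A' := A') (B' := B') π) → PerfModHom π) := by
  letI := π.toAlgebra
  letI := (pushPres (A' := A') (B' := B') π).toAlgebra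
  letI : Algebra (MvPolynomial (Fin n) A) B' := ((algebraMap B B').comp π).toAlgebra
  haveI : IsScalarTower (MvPolynomial (Fin n) A) B B' := IsScalarTower.of_algebraMap_eq fun _ => rfl
  haveI : IsScalarTower (MvPolynomial (Fin n) A) (MvPolynomial (Fin n) A') B' :=
    IsScalarTower.of_algebraMap_eq fun p => (RingHom.congr_fun (pushPres_map hc) p).symm
  haveI : IsScalarTower A (MvPolynomial (Fin n) A) B :=
    IsScalarTower.of_algebraMap_eq fun a => (RingHom.congr_fun hc a).symm
  haveI : IsScalarTower A (MvPolynomial (Fin n) A) B' :=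
    IsScalarTower.of_algebraMap_eq fun a => by
      show _ = algebraMap B B' (π (MvPolynomial.C a))
      rw [show π (MvPolynomial.C a) = algebraMap A B a from RingHom.congr_fun hc a,
        ← IsScalarTower.algebraMap_apply]
  haveI : IsScalarTower A' (MvPolynomial (Fin n) A') B' :=
    IsScalarTower.of_algebraMap_eq fun a => (show _ = pushPres (A' := A') (B' := B') π (MvPolynomial.C a) by
      simp [pushPres])
  haveI : IsScalarTower A (MvPolynomial (Fin n) A) (MvPolynomial (Fin n) A') :=
    IsScalarTower.of_algebraMap_eq fun a => (MvPolynomial.map_C (algebraMap A A') a).symm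
  haveI : IsScalarTower A (MvPolynomial (Fin n) A') B' :=
    IsScalarTower.of_algebraMap_eq fun a => by
      show _ = pushPres (A' := A') (B' := B') π (MvPolynomial.C (algebraMap A A' a))
      simp [pushPres, ← IsScalarTower.algebraMap_apply]
  haveI : Algebra.IsPushout (MvPolynomial (Fin n) A) (MvPolynomial (Fin n) A') B B' :=
    haveI : Algebra.IsPushout A B A' B' := .symm inferInstance
    Algebra.IsPushout.symm ((Algebra.IsPushout.comp_iff (R := A) (S := MvPolynomial (Fin n) A) (R' := A')
      (S' := MvPolynomial (Fin n) A') (T := B) (T' := B')).1 inferInstance)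
  haveI : Module.FaithfullyFlat (MvPolynomial (Fin n) A) (MvPolynomial (Fin n) A') :=
    Module.FaithfullyFlat.of_linearEquiv (MvPolynomial (Fin n) A) (MvPolynomial (Fin n) A ⊗[A] A')
      (Algebra.IsPushout.equiv A (MvPolynomial (Fin n) A) A' (MvPolynomial (Fin n) A')).symm.toLinearEquiv
  let K := (HomologicalComplex.single (ModuleCat.{u} (MvPolynomial (Fin n) A)) (ComplexShape.up ℤ) 0).obj
    (ModuleCat.of (MvPolynomial (Fin n) A) B)
  let back : DRing.toD ((extCx (algebraMap (MvPolynomial (Fin n) A) (MvPolynomial (Fin n) A'))).obj K) ≅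
      (DerivedCategory.singleFunctor _ 0).obj ((ModuleCat.restrictScalars
        (algebraMap (MvPolynomial (Fin n) A') B')).obj (ModuleCat.of B' B')) := pushSingleIso
  have hB := isCover_faithfullyFlat (A := MvPolynomial (Fin n) A) (MvPolynomial (Fin n) A')
  refine ⟨fun h m => ?_, fun h => ?_⟩
  · exact ((NPC_of_cover' hB K fun _ => NPC.of_iso (h m) back.symm).of_iso (singleQIso 0 _)).of_iso
      ((DerivedCategory.singleFunctor _ 0).mapIso selfRestrictIso.symm)
  · exact isPerfect_of_iso (isPerfect_of_cover hB
      (fun N _ _ hN => (Module.Flat.iff_flat_tensorProduct (MvPolynomial (Fin n) A) N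
        (MvPolynomial (Fin n) A')).1 (hN ())) K fun _ => isPerfect_of_iso h back.symm)
      (singleQIso 0 _ ≪≫ (DerivedCategory.singleFunctor _ 0).mapIso selfRestrictIso.symm)

lemma exists_pres_of_ft [Module.FaithfullyFlat A A'] (h : PCRing (algebraMap A' B')) :
    ∃ (n : ℕ) (π : MvPolynomial (Fin n) A →+* B), Function.Surjective π ∧
      π.comp MvPolynomial.C = algebraMap A B := by
  haveI : Algebra.IsPushout A B A' B' := .symm inferInstance
  have hft : (algebraMap A B).FiniteType :=
    RingHom.FiniteType.codescendsAlong_faithfullyFlat (R := A) (S := B) (R' := A') (S' := B')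
      (RingHom.faithfullyFlat_algebraMap_iff.2 inferInstance) h.finiteType
  obtain ⟨n, φ, hφ⟩ := @exists_presentation_ft A B _ _ _ (RingHom.finiteType_algebraMap.1 hft)
  exact ⟨n, φ.toRingHom, hφ, RingHom.ext φ.commutes⟩

theorem PCRing.descend [Module.FaithfullyFlat A A'] (h : PCRing (algebraMap A' B')) :
    PCRing (algebraMap A B) := by
  obtain ⟨n, π, hπ, hc⟩ := exists_pres_of_ft (A := A) (B := B) h
  exact (pcRing_iff _).2 ⟨n, π, hπ, hc, (descend_pres hc).1
    (h.pcHom _ (pushPres_surjective hπ hc) (RingHom.ext fun a => by simp [pushPres]))⟩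

theorem PerfRing.descend [Module.FaithfullyFlat A A'] (h : PerfRing (algebraMap A' B')) :
    PerfRing (algebraMap A B) := by
  obtain ⟨n, π, hπ, hc⟩ := exists_pres_of_ft (A := A) (B := B) h.toPC
  exact (perfRing_iff _).2 ⟨n, π, hπ, hc, (descend_pres hc).2
    (h.perfModHom _ (pushPres_surjective hπ hc) (RingHom.ext fun a => by simp [pushPres]))⟩

omit [Algebra A A'] [Algebra A B] [Algebra A' B'] [Algebra B B'] [Algebra A B'] [IsScalarTower A A' B']
  [IsScalarTower A B B'] [Algebra.IsPushout A A' B B'] in
theorem pcRing_codescendsAlong : RingHom.CodescendsAlong @PCRing @RingHom.FaithfullyFlat := by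
  intro R S R' S' _ _ _ _ _ _ _ _ _ _ _ _ hff h
  haveI := RingHom.faithfullyFlat_algebraMap_iff.1 hff
  haveI : Algebra.IsPushout R R' S S' := .symm inferInstance
  exact PCRing.descend (A := R) (A' := R') (B := S) (B' := S') h

omit [Algebra A A'] [Algebra A B] [Algebra A' B'] [Algebra B B'] [Algebra A B'] [IsScalarTower A A' B']
  [IsScalarTower A B B'] [Algebra.IsPushout A A' B B'] in
theorem perfRing_codescendsAlong : RingHom.CodescendsAlong @PerfRing @RingHom.FaithfullyFlat := by
  intro R S R' S' _ _ _ _ _ _ _ _ _ _ _ _ hff h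
  haveI := RingHom.faithfullyFlat_algebraMap_iff.1 hff
  haveI : Algebra.IsPushout R R' S S' := .symm inferInstance
  exact PerfRing.descend (A := R) (A' := R') (B := S) (B' := S') h

end Groth.Agent.PerfMor
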