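import Groth.Agent.S9456
import Groth.Agent.DRingPC.PolyTor
import Groth.Agent.DRingPC.Module
import Groth.Agent.DRingPC.Rel
import Groth.Agent.TFun.Flat
import Groth.Prelude.Def_MoreMor
import Mathlib.RingTheory.TensorProduct.MvPolynomial

/-!
Flat maps of finite presentation are perfect.
-/

set_option autoImplicit false
set_option linter.style.haveILetI false
universe u

open CategoryTheory CategoryTheory.Limits Groth.Agent.PCohLib Groth.Agent.DRingPC
open TensorProduct

attribute [local instance] HasDerivedCategory.standard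

namespace Groth.Agent.PerfMor

/-- Base change of an `R₀`-flat finite module to `P = R ⊗ P₀` is pseudo-coherent. -/
lemma NPC_baseChange (R₀ R : Type u) {P₀ P : Type u} [CommRing R₀] [CommRing R] [CommRing P₀] [CommRing P]
    [Algebra R₀ R] [Algebra R₀ P₀] [Algebra P₀ P] [Algebra R P] [Algebra R₀ P]
    [IsScalarTower R₀ P₀ P] [IsScalarTower R₀ R P] [Algebra.IsPushout R₀ R P₀ P]
    [IsNoetherianRing P₀] [Module.Flat R₀ P₀] :
    ∀ (k : ℕ) (M : Type u) [AddCommGroup M] [Module P₀ M] [Module R₀ M] [IsScalarTower R₀ P₀ M]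
      [Module.Finite P₀ M] [Module.Flat R₀ M],
      NPC (FF P) (-(k : ℤ)) ((DerivedCategory.singleFunctor _ 0).obj (ModuleCat.of P (P ⊗[P₀] M))) := by
  intro k
  induction k with
  | zero =>
    intro M _ _ _ _ _ _
    exact ((NPC_zero_inD_iff _).2 (inferInstanceAs (Module.Finite P (P ⊗[P₀] M)))).mono (by simp)
  | succ k ih =>
    intro M _ _ _ _ _ _
    obtain ⟨r, g, hg⟩ := Module.Finite.exists_fin' P₀ M
    let K := LinearMap.ker g
    have hex : Function.Exact K.subtype g := LinearMap.exact_subtype_ker_map g
    haveI : Module.Finite P₀ K := inferInstance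
    haveI : Module.Flat R₀ (Fin r → P₀) := Module.Flat.trans R₀ P₀ _
    haveI : Module.Flat R₀ K :=
      TFun.flat_left (g := K.subtype.restrictScalars R₀) (f := g.restrictScalars R₀)
        Subtype.val_injective hex hg
    have hinj : Function.Injective (K.subtype.baseChange P) := by
      have h1 : Function.Injective ((K.subtype.restrictScalars R₀).lTensor R) :=
        LinearMap.lTensor_injective_of_exact_of_flat (g.restrictScalars R₀) hg _ Subtype.val_injective hex R
      let eK := Algebra.IsPushout.cancelBaseChange R₀ R P₀ P K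
      let eF := Algebra.IsPushout.cancelBaseChange R₀ R P₀ P (Fin r → P₀)
      have key : ∀ t : R ⊗[R₀] K, K.subtype.baseChange P (eK.symm t) =
          eF.symm ((K.subtype.restrictScalars R₀).lTensor R t) := by
        intro t
        induction t using TensorProduct.induction_on with
        | zero => simp only [map_zero]
        | add x y hx hy => simp only [map_add, hx, hy]
        | tmul s x => simp [eK, eF]
      intro x y hxy
      obtain ⟨x, rfl⟩ := eK.symm.surjective x
      obtain ⟨y, rfl⟩ := eK.symm.surjective y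
      rw [key, key] at hxy
      rw [h1 (eF.symm.injective hxy)]
    let S : ShortComplex (ModuleCat.{u} P) :=
      ShortComplex.mk (ModuleCat.ofHom (K.subtype.baseChange P)) (ModuleCat.ofHom (g.baseChange P)) (by
        refine ModuleCat.hom_ext (LinearMap.ext fun x => ?_)
        change (g.baseChange P) ((K.subtype.baseChange P) x) = 0
        rw [← LinearMap.comp_apply, ← LinearMap.baseChange_comp, hex.linearMap_comp_eq_zero]
        simp)
    have hS : S.ShortExact :=
      { exact := (ShortComplex.ShortExact.moduleCat_exact_iff_function_exact S).2 (lTensor_exact P hex hg)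
        mono_f := (ModuleCat.mono_iff_injective _).2 hinj
        epi_g := (ModuleCat.epi_iff_surjective _).2 (LinearMap.lTensor_surjective P hg) }
    have hF : ∀ m, NPC (FF P) m ((DerivedCategory.singleFunctor _ 0).obj S.X₂) := fun m =>
      NPC_single_of_mem (show FF P S.X₂ from ⟨inferInstanceAs (Module.Finite P (P ⊗[P₀] (Fin r → P₀))),
        inferInstanceAs (Module.Free P (P ⊗[P₀] (Fin r → P₀)))⟩) m
    exact NPC.of_triangle₃ (FF.sum P) (FF.qs P) (FF.ql P) hS.singleTriangle_distinguished
      ((ih K).mono (by push_cast; omega)) (hF _)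

attribute [local instance] MvPolynomial.algebraMvPolynomial in
/-- Flat algebras of finite presentation are perfect. -/
theorem isPerfectHom_of_flat_fp (A B : Type u) [CommRing A] [CommRing B] [Algebra A B]
    [Module.Flat A B] [Algebra.FinitePresentation A B] : MoreMor.IsPerfectHom A B := by
  refine ⟨?_, 0, (td_iff 0 B).2 (td_of_flat (M := ModuleCat.of A B) 0)⟩
  obtain ⟨R₀, _, _, S₀, _, _, iS, _, _, _, M₀, _, _, _, _, iMB, hT, f, hR₀, hS₀, hM₀, hflat, hpush, hbc⟩ :=
    Groth.Agent.S9456.result A B B
  obtain rfl : iMB = iS.toModule := by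
    refine Module.ext' _ _ fun s b => ?_
    have h := hT.smul_assoc s 1 b
    rw [smul_eq_mul, smul_eq_mul, one_mul] at h
    exact h.symm.trans (by rw [Algebra.smul_def, mul_one]; exact (Algebra.smul_def s b).symm)
  obtain ⟨n, π₀, hπ₀⟩ := exists_presentation_ft R₀ S₀
  let α : MvPolynomial (Fin n) A →ₐ[A] B :=
    MvPolynomial.aeval fun i => algebraMap S₀ B (π₀ (MvPolynomial.X i))
  have hcomm : ∀ p, α (MvPolynomial.map (algebraMap R₀ A) p) = algebraMap S₀ B (π₀ p) := fun p => by
    induction p using MvPolynomial.induction_on with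
    | C r =>
      simp [α, ← IsScalarTower.algebraMap_apply]
    | add x y hx hy => simp only [map_add, hx, hy]
    | mul_X p i hp => simp only [map_mul, hp, MvPolynomial.map_X, α, MvPolynomial.aeval_X]
  have hα : Function.Surjective α := fun b => by
    haveI := hpush
    obtain ⟨t, rfl⟩ := (Algebra.IsPushout.equiv R₀ A S₀ B).surjective b
    induction t using TensorProduct.induction_on with
    | zero => exact ⟨0, by simp⟩
    | add x y hx hy =>
      obtain ⟨p, hp⟩ := hx; obtain ⟨q, hq⟩ := hy
      exact ⟨p + q, by rw [map_add, map_add, hp, hq]⟩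
    | tmul a s =>
      obtain ⟨p, rfl⟩ := hπ₀ s
      exact ⟨a • MvPolynomial.map (algebraMap R₀ A) p, by
        rw [map_smul, hcomm, Algebra.IsPushout.equiv_tmul, Algebra.smul_def]⟩
  refine ⟨n, α, hα, ?_⟩
  letI := α.toRingHom.toAlgebra
  letI := π₀.toRingHom.toAlgebra
  haveI : IsScalarTower R₀ (MvPolynomial (Fin n) R₀) S₀ :=
    IsScalarTower.of_algebraMap_eq fun a => (π₀.commutes a).symm
  letI : Algebra (MvPolynomial (Fin n) R₀) B := ((algebraMap S₀ B).comp π₀.toRingHom).toAlgebra
  haveI : IsScalarTower (MvPolynomial (Fin n) R₀) S₀ B := IsScalarTower.of_algebraMap_eq fun _ => rfl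
  haveI : IsScalarTower (MvPolynomial (Fin n) R₀) (MvPolynomial (Fin n) A) B :=
    IsScalarTower.of_algebraMap_eq fun p => (hcomm p).symm
  letI : Module (MvPolynomial (Fin n) R₀) M₀ := Module.compHom M₀ π₀.toRingHom
  haveI : IsScalarTower (MvPolynomial (Fin n) R₀) S₀ M₀ := IsScalarTower.of_algebraMap_smul fun _ _ => rfl
  haveI : IsScalarTower R₀ (MvPolynomial (Fin n) R₀) M₀ := IsScalarTower.of_algebraMap_smul fun a m => by
    show π₀ (algebraMap R₀ _ a) • m = a • m
    rw [π₀.commutes, algebraMap_smul]
  haveI : Module.Finite (MvPolynomial (Fin n) R₀) S₀ :=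
    Module.Finite.of_surjective (Algebra.linearMap (MvPolynomial (Fin n) R₀) S₀) hπ₀
  haveI : Module.Finite (MvPolynomial (Fin n) R₀) M₀ := Module.Finite.trans S₀ M₀
  haveI : IsNoetherianRing R₀ := Algebra.FiniteType.isNoetherianRing ℤ R₀
  haveI := hflat
  haveI := hpush
  haveI : IsScalarTower (MvPolynomial (Fin n) R₀) S₀ B := inferInstance
  let f' : M₀ →ₗ[MvPolynomial (Fin n) R₀] B := f.restrictScalars _
  let g : MvPolynomial (Fin n) A ⊗[MvPolynomial (Fin n) R₀] M₀ →ₗ[MvPolynomial (Fin n) A] B :=
    f'.liftBaseChange (MvPolynomial (Fin n) A)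
  haveI : IsScalarTower R₀ (MvPolynomial (Fin n) R₀) (MvPolynomial (Fin n) A) :=
    IsScalarTower.of_algebraMap_eq fun a => by
      show _ = MvPolynomial.map (algebraMap R₀ A) (MvPolynomial.C a)
      rw [MvPolynomial.map_C]; rfl
  let e₁ := Algebra.IsPushout.cancelBaseChange R₀ A (MvPolynomial (Fin n) R₀) (MvPolynomial (Fin n) A) M₀
  let e₂ := Algebra.IsPushout.cancelBaseChange R₀ A S₀ B M₀
  have hg : Function.Bijective g := by
    have h : ∀ t, g (e₁.symm t) = hbc.equiv (e₂.symm t) := fun t => by
      induction t using TensorProduct.induction_on with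
      | zero => simp only [map_zero]
      | add x y hx hy => simp only [map_add, hx, hy]
      | tmul a m =>
        simp only [e₁, e₂, Algebra.IsPushout.cancelBaseChange_symm_tmul, g, LinearMap.liftBaseChange_tmul,
          IsBaseChange.equiv_tmul]
        show (algebraMap A (MvPolynomial (Fin n) A) a) • f m = _
        rw [algebraMap_smul, algebraMap_smul]
    have : (g : _ → B) = hbc.equiv ∘ e₂.symm ∘ e₁ := funext fun x => by
      simpa using h (e₁ x)
    rw [this]
    exact hbc.equiv.bijective.comp (e₂.symm.bijective.comp e₁.bijective)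
  rw [isPCModule'_iff]
  intro m
  exact (NPC_single_congr (LinearEquiv.ofBijective g hg).toModuleIso
    (NPC_baseChange R₀ A (-m).toNat M₀)).mono (by omega)

end Groth.Agent.PerfMor
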