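import Groth.Agent.PerfMor.FlatFP
import Groth.Agent.DRingPC.PerfectDescent
import Groth.Agent.DRingPC.TorAmpOps
import Groth.Agent.DRingPC.BaseChange
import Mathlib.RingTheory.RingHom.FiniteType
import Mathlib.RingTheory.Localization.BaseChange
import Mathlib.RingTheory.Localization.Away.AdjoinRoot

/-!
Pseudo-coherent and perfect ring maps as properties of ring homomorphisms.
-/

set_option autoImplicit false
set_option linter.style.haveILetI false
set_option linter.unusedSectionVars false
universe u

open CategoryTheory CategoryTheory.Limits Groth.Agent.PCohLib Groth.Agent.DRingPC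
open TensorProduct

attribute [local instance] HasDerivedCategory.standard

namespace Groth.Agent.PerfMor

variable {A B C : Type u} [CommRing A] [CommRing B] [CommRing C]

/-- `B` is a perfect `A`-module through `f`. -/
def PerfModHom (f : A →+* B) : Prop :=
  DRing.IsPerfect A ((DerivedCategory.singleFunctor _ 0).obj
    ((ModuleCat.restrictScalars f).obj (ModuleCat.of B B)))

/-- Pseudo-coherent ring maps. -/
def PCRing (f : A →+* B) : Prop :=
  letI := f.toAlgebra
  MoreMor.IsPseudoCoherentHom A B

/-- Perfect ring maps. -/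
def PerfRing (f : A →+* B) : Prop :=
  letI := f.toAlgebra
  MoreMor.IsPerfectHom A B

lemma pcRing_algebraMap [Algebra A B] : PCRing (algebraMap A B) ↔ MoreMor.IsPseudoCoherentHom A B := by
  rw [PCRing]
  congr!
  exact Algebra.algebra_ext _ _ fun _ => rfl

lemma perfRing_algebraMap [Algebra A B] : PerfRing (algebraMap A B) ↔ MoreMor.IsPerfectHom A B := by
  rw [PerfRing]
  congr!
  exact Algebra.algebra_ext _ _ fun _ => rfl

noncomputable def selfRestrictIso [Algebra A B] :
    (ModuleCat.restrictScalars (algebraMap A B)).obj (ModuleCat.of B B) ≅ ModuleCat.of A B :=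
  let l : B →ₗ[A] (ModuleCat.restrictScalars (algebraMap A B)).obj (ModuleCat.of B B) :=
    { toFun := fun x => x, map_add' := fun _ _ => rfl, map_smul' := fun a x => Algebra.smul_def a x }
  (LinearEquiv.ofBijective l Function.bijective_id).toModuleIso.symm

lemma PerfModHom.of_algebra [Algebra A B] :
    PerfModHom (algebraMap A B) ↔ DRing.IsPerfectModule A B :=
  ⟨fun h => isPerfect_of_iso h ((DerivedCategory.singleFunctor _ 0).mapIso selfRestrictIso),
    fun h => isPerfect_of_iso h ((DerivedCategory.singleFunctor _ 0).mapIso selfRestrictIso.symm)⟩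

lemma PerfModHom.comp {f : A →+* B} {g : B →+* C} (hf : PerfModHom f) (hg : PerfModHom g) :
    PerfModHom (g.comp f) := by
  letI := f.toAlgebra
  have h := isPerfect_restrict (A := A) (PerfModHom.of_algebra.1 (show PerfModHom (algebraMap A B) from hf)) hg
  exact isPerfect_of_iso h ((DRing.restrictD (algebraMap A B)).mapIso (restrictSingle g 0 _).symm ≪≫
    (restrictQComp g f _).symm ≪≫ restrictSingle (g.comp f) 0 _)

lemma PerfModHom.toPC {f : A →+* B} (hf : PerfModHom f) : PCHom f := by
  obtain ⟨E, a, b, hz, hE, ⟨e⟩⟩ := hf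
  intro m
  exact (NPC_FPj_iff m _).1 (NPC.mk ⟨⟨b, fun i hi => hz i (Or.inr hi)⟩, fun i _ => hE i⟩ e)

lemma PerfModHom.of_bijective (f : A →+* B) (hf : Function.Bijective f) : PerfModHom f := by
  let l : A →ₗ[A] (ModuleCat.restrictScalars f).obj (ModuleCat.of B B) :=
    { toFun := f, map_add' := f.map_add, map_smul' := fun a x => f.map_mul a x }
  have h : DRing.IsPerfectModule A A := by
    refine ⟨(HomologicalComplex.single _ (ComplexShape.up ℤ) 0).obj (ModuleCat.of A A), 0, 0,
      fun i hi => HomologicalComplex.isZero_single_obj_X _ _ _ _ (by omega), fun i => ?_, ⟨singleQIso 0 _⟩⟩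
    by_cases hi : i = 0
    · subst hi
      exact (FPj A).prop_of_iso (HomologicalComplex.singleObjXSelf (ComplexShape.up ℤ) 0 _).symm
        ⟨Module.Finite.self A, inferInstanceAs (Module.Projective A A)⟩
    · exact (FPj A).prop_of_isZero (HomologicalComplex.isZero_single_obj_X _ _ _ _ hi)
  exact isPerfect_of_iso h ((DerivedCategory.singleFunctor _ 0).mapIso
    (LinearEquiv.ofBijective l hf).toModuleIso)

/-- Presentations of a pseudo-coherent map. -/
lemma pcRing_iff (f : A →+* B) : PCRing f ↔ ∃ (n : ℕ) (π : MvPolynomial (Fin n) A →+* B),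
    Function.Surjective π ∧ π.comp MvPolynomial.C = f ∧ PCHom π := by
  letI := f.toAlgebra
  constructor
  · rintro ⟨n, φ, hφ, h⟩
    letI := φ.toRingHom.toAlgebra
    exact ⟨n, φ.toRingHom, hφ, RingHom.ext φ.commutes, PCHom.of_algebra.2 h⟩
  · rintro ⟨n, π, hπ, hc, h⟩
    let φ : MvPolynomial (Fin n) A →ₐ[A] B := { π with commutes' := fun a => RingHom.congr_fun hc a }
    refine ⟨n, φ, hπ, ?_⟩
    letI := φ.toRingHom.toAlgebra
    exact PCHom.of_algebra.1 h

/-- Presentations of a perfect map. -/
lemma perfRing_iff (f : A →+* B) : PerfRing f ↔ ∃ (n : ℕ) (π : MvPolynomial (Fin n) A →+* B),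
    Function.Surjective π ∧ π.comp MvPolynomial.C = f ∧ PerfModHom π := by
  letI := f.toAlgebra
  constructor
  · rintro ⟨⟨n, φ, hφ, h⟩, hd⟩
    letI := φ.toRingHom.toAlgebra
    haveI : IsScalarTower A (MvPolynomial (Fin n) A) B :=
      IsScalarTower.of_algebraMap_eq fun a => (φ.commutes a).symm
    exact ⟨n, φ.toRingHom, hφ, RingHom.ext φ.commutes,
      PerfModHom.of_algebra.2 (perfectModule_iff_torDim.2 ⟨h, hd⟩)⟩
  · rintro ⟨n, π, hπ, hc, h⟩
    let φ : MvPolynomial (Fin n) A →ₐ[A] B := { π with commutes' := fun a => RingHom.congr_fun hc a }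
    letI := φ.toRingHom.toAlgebra
    haveI : IsScalarTower A (MvPolynomial (Fin n) A) B :=
      IsScalarTower.of_algebraMap_eq fun a => (φ.commutes a).symm
    obtain ⟨h1, h2⟩ := perfectModule_iff_torDim.1 (PerfModHom.of_algebra.1 h)
    exact ⟨⟨n, φ, hπ, h1⟩, h2⟩

lemma PerfRing.toPC {f : A →+* B} (h : PerfRing f) : PCRing f := h.1

/-- Pseudo-coherence holds for every presentation. -/
lemma PCRing.pcHom {f : A →+* B} (h : PCRing f) {n : ℕ} (π : MvPolynomial (Fin n) A →+* B)
    (hπ : Function.Surjective π) (hc : π.comp MvPolynomial.C = f) : PCHom π := by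
  letI := f.toAlgebra
  obtain ⟨k, φ, hφ, h⟩ := h
  let φ' : MvPolynomial (Fin n) A →ₐ[A] B := { π with commutes' := fun a => RingHom.congr_fun hc a }
  letI := φ.toRingHom.toAlgebra
  have hφp : PCHom φ.toRingHom := PCHom.of_algebra.2 h
  intro m
  have := (relVia_iff φ hφ φ' hπ m ((DerivedCategory.singleFunctor _ 0).obj (ModuleCat.of B B))).1
    ((isPC_iff_NPC _ _ _).2 (NPC.of_iso (hφp m) (restrictSingle φ.toRingHom 0 _).symm))
  exact NPC.of_iso ((isPC_iff_NPC _ _ _).1 this) (restrictSingle π 0 _)

/-- Perfection holds for every presentation. -/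
lemma PerfRing.perfModHom {f : A →+* B} (h : PerfRing f) {n : ℕ} (π : MvPolynomial (Fin n) A →+* B)
    (hπ : Function.Surjective π) (hc : π.comp MvPolynomial.C = f) : PerfModHom π := by
  have hp := h.toPC.pcHom π hπ hc
  letI := f.toAlgebra
  letI := π.toAlgebra
  haveI : IsScalarTower A (MvPolynomial (Fin n) A) B :=
    IsScalarTower.of_algebraMap_eq fun a => (RingHom.congr_fun hc a).symm
  exact PerfModHom.of_algebra.2 (perfectModule_iff_torDim.2
    ⟨(PCHom.of_algebra (A := MvPolynomial (Fin n) A)).1 hp, h.2⟩)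

/-- Flat maps of finite presentation. -/
lemma perfRing_of_flat_fp [Algebra A B] [Module.Flat A B] [Algebra.FinitePresentation A B] :
    PerfRing (algebraMap A B) := perfRing_algebraMap.2 (isPerfectHom_of_flat_fp A B)

lemma perfRing_away [Algebra A B] (r : A) [IsLocalization.Away r B] : PerfRing (algebraMap A B) :=
  haveI : Module.Flat A B := IsLocalization.flat B (Submonoid.powers r)
  haveI : Algebra.FinitePresentation A B := IsLocalization.Away.finitePresentation r
  perfRing_of_flat_fp

section BaseChange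

variable {P P' : Type u} [CommRing P] [CommRing P'] [Algebra P P'] [Algebra P B] [Algebra P' C]
  [Algebra B C] [Algebra P C] [IsScalarTower P P' C] [IsScalarTower P B C] [Algebra.IsPushout P P' B C]

/-- The base change of the regular module. -/
noncomputable def pushIso :
    ModuleCat.of P' (P' ⊗[P] B) ≅ (ModuleCat.restrictScalars (algebraMap P' C)).obj (ModuleCat.of C C) :=
  (Algebra.IsPushout.equiv P P' B C).toLinearEquiv.toModuleIso ≪≫ selfRestrictIso.symm

noncomputable def pushSingleIso :
    DRing.toD ((extCx (algebraMap P P')).obj ((HomologicalComplex.single _ (ComplexShape.up ℤ) 0).obj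
        (ModuleCat.of P B))) ≅
      (DerivedCategory.singleFunctor _ 0).obj
        ((ModuleCat.restrictScalars (algebraMap P' C)).obj (ModuleCat.of C C)) :=
  extendSingle _ _ ≪≫ (DerivedCategory.singleFunctor _ 0).mapIso ((extendEquiv P P' B).symm ≪≫ pushIso)

lemma PCHom.baseChange [Module.Flat P P'] (h : PCHom (algebraMap P B)) : PCHom (algebraMap P' C) := fun m =>
  (NPC_extend_of_flat _ (RingHom.flat_algebraMap_iff.2 inferInstance)
    ((NPC_single_congr selfRestrictIso (h m)).of_iso (singleQIso 0 _).symm)).of_iso pushSingleIso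

lemma PerfModHom.baseChange [Module.Flat P P'] (h : PerfModHom (algebraMap P B)) :
    PerfModHom (algebraMap P' C) :=
  isPerfect_of_iso (isPerfect_extend_of_flat _ (RingHom.flat_algebraMap_iff.2 inferInstance)
    (isPerfect_of_iso (PerfModHom.of_algebra.1 h) (singleQIso 0 _).symm)) pushSingleIso

end BaseChange

section Ops

/-- The composite presentation. -/
noncomputable def compPres {n k : ℕ} (π : MvPolynomial (Fin n) A →+* B) (ρ : MvPolynomial (Fin k) B →+* C) :
    MvPolynomial (Fin (k + n)) A →+* C :=
  (ρ.comp (MvPolynomial.map π)).comp ((MvPolynomial.sumRingEquiv A (Fin k) (Fin n)).toRingHom.comp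
    (MvPolynomial.renameEquiv A finSumFinEquiv.symm).toRingEquiv.toRingHom)

lemma compPres_surjective {n k : ℕ} {π : MvPolynomial (Fin n) A →+* B} {ρ : MvPolynomial (Fin k) B →+* C}
    (hπ : Function.Surjective π) (hρ : Function.Surjective ρ) : Function.Surjective (compPres π ρ) :=
  (hρ.comp (MvPolynomial.map_surjective _ hπ)).comp
    ((MvPolynomial.sumRingEquiv A (Fin k) (Fin n)).surjective.comp
      (MvPolynomial.renameEquiv A finSumFinEquiv.symm).surjective)

lemma compPres_C {n k : ℕ} {π : MvPolynomial (Fin n) A →+* B} {ρ : MvPolynomial (Fin k) B →+* C}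
    {f : A →+* B} {g : B →+* C} (hπ : π.comp MvPolynomial.C = f) (hρ : ρ.comp MvPolynomial.C = g) :
    (compPres π ρ).comp MvPolynomial.C = g.comp f := by
  refine RingHom.ext fun a => ?_
  simp [compPres, ← hπ, ← hρ]

lemma PCHom.map_poly {n : ℕ} {σ : Type} {π : MvPolynomial (Fin n) A →+* B} (h : PCHom π) :
    PCHom (MvPolynomial.map (σ := σ) π) := by
  letI := π.toAlgebra
  letI : Algebra (MvPolynomial σ (MvPolynomial (Fin n) A)) (MvPolynomial σ B) :=
    MvPolynomial.algebraMvPolynomial
  exact PCHom.baseChange (P := MvPolynomial (Fin n) A) (P' := MvPolynomial σ (MvPolynomial (Fin n) A))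
    (B := B) (C := MvPolynomial σ B) h

lemma PerfModHom.map_poly {n : ℕ} {σ : Type} {π : MvPolynomial (Fin n) A →+* B} (h : PerfModHom π) :
    PerfModHom (MvPolynomial.map (σ := σ) π) := by
  letI := π.toAlgebra
  letI : Algebra (MvPolynomial σ (MvPolynomial (Fin n) A)) (MvPolynomial σ B) :=
    MvPolynomial.algebraMvPolynomial
  exact PerfModHom.baseChange (P := MvPolynomial (Fin n) A) (P' := MvPolynomial σ (MvPolynomial (Fin n) A))
    (B := B) (C := MvPolynomial σ B) h

theorem PCRing.comp {f : A →+* B} {g : B →+* C} (hf : PCRing f) (hg : PCRing g) : PCRing (g.comp f) := by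
  obtain ⟨n, π, hπ, hπc, h₁⟩ := (pcRing_iff f).1 hf
  obtain ⟨k, ρ, hρ, hρc, h₂⟩ := (pcRing_iff g).1 hg
  exact (pcRing_iff _).2 ⟨k + n, compPres π ρ, compPres_surjective hπ hρ, compPres_C hπc hρc,
    ((PCHom.of_bijective _ (MvPolynomial.renameEquiv A finSumFinEquiv.symm).bijective).comp
      (PCHom.of_bijective _ (MvPolynomial.sumRingEquiv A (Fin k) (Fin n)).bijective)).comp
        ((PCHom.map_poly h₁).comp h₂)⟩

theorem PerfRing.comp {f : A →+* B} {g : B →+* C} (hf : PerfRing f) (hg : PerfRing g) :
    PerfRing (g.comp f) := by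
  obtain ⟨n, π, hπ, hπc, h₁⟩ := (perfRing_iff f).1 hf
  obtain ⟨k, ρ, hρ, hρc, h₂⟩ := (perfRing_iff g).1 hg
  exact (perfRing_iff _).2 ⟨k + n, compPres π ρ, compPres_surjective hπ hρ, compPres_C hπc hρc,
    ((PerfModHom.of_bijective _ (MvPolynomial.renameEquiv A finSumFinEquiv.symm).bijective).comp
      (PerfModHom.of_bijective _ (MvPolynomial.sumRingEquiv A (Fin k) (Fin n)).bijective)).comp
        ((PerfModHom.map_poly h₁).comp h₂)⟩

variable {A' B' : Type u} [CommRing A'] [CommRing B'] [Algebra A A'] [Algebra A B] [Algebra A' B']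
  [Algebra B B'] [Algebra A B'] [IsScalarTower A A' B'] [IsScalarTower A B B'] [Algebra.IsPushout A A' B B']

/-- The base changed presentation. -/
noncomputable def pushPres {n : ℕ} (π : MvPolynomial (Fin n) A →+* B) : MvPolynomial (Fin n) A' →+* B' :=
  MvPolynomial.eval₂Hom (algebraMap A' B') fun i => algebraMap B B' (π (MvPolynomial.X i))

lemma pushPres_map {n : ℕ} {π : MvPolynomial (Fin n) A →+* B} (hc : π.comp MvPolynomial.C = algebraMap A B) :
    (pushPres (A' := A') (B' := B') π).comp (MvPolynomial.map (algebraMap A A')) =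
      (algebraMap B B').comp π := by
  refine MvPolynomial.ringHom_ext (fun a => ?_) (fun i => ?_)
  · simp [pushPres, ← IsScalarTower.algebraMap_apply, show π (MvPolynomial.C a) = algebraMap A B a from
      RingHom.congr_fun hc a]
  · simp [pushPres]

lemma pushPres_surjective {n : ℕ} {π : MvPolynomial (Fin n) A →+* B} (hπ : Function.Surjective π)
    (hc : π.comp MvPolynomial.C = algebraMap A B) : Function.Surjective (pushPres (A' := A') (B' := B') π) := by
  intro y
  obtain ⟨t, rfl⟩ := (Algebra.IsPushout.equiv A A' B B').surjective y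
  induction t using TensorProduct.induction_on with
  | zero => exact ⟨0, by simp⟩
  | add x y hx hy =>
    obtain ⟨p, hp⟩ := hx; obtain ⟨q, hq⟩ := hy
    exact ⟨p + q, by rw [map_add, map_add, hp, hq]⟩
  | tmul a s =>
    obtain ⟨p, rfl⟩ := hπ s
    refine ⟨MvPolynomial.C a * MvPolynomial.map (algebraMap A A') p, ?_⟩
    rw [map_mul, Algebra.IsPushout.equiv_tmul]
    congr 1
    · simp [pushPres]
    · exact RingHom.congr_fun (pushPres_map hc) p

attribute [local instance] MvPolynomial.algebraMvPolynomial in
lemma exists_push_instances {n : ℕ} {π : MvPolynomial (Fin n) A →+* B}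
    (hc : π.comp MvPolynomial.C = algebraMap A B) [Module.Flat A A'] :
    (PCHom π → PCHom (pushPres (A' := A') (B' := B') π)) ∧
      (PerfModHom π → PerfModHom (pushPres (A' := A') (B' := B') π)) := by
  letI := π.toAlgebra
  letI := (pushPres (A' := A') (B' := B') π).toAlgebra
  letI : Algebra (MvPolynomial (Fin n) A) B' := ((algebraMap B B').comp π).toAlgebra
  haveI : IsScalarTower (MvPolynomial (Fin n) A) B B' := IsScalarTower.of_algebraMap_eq fun _ => rfl
  haveI : IsScalarTower (MvPolynomial (Fin n) A) (MvPolynomial (Fin n) A') B' :=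
    IsScalarTower.of_algebraMap_eq fun p => (RingHom.congr_fun (pushPres_map hc) p).symm
  haveI : IsScalarTower A (MvPolynomial (Fin n) A) B :=
    IsScalarTower.of_algebraMap_eq fun a => (RingHom.congr_fun hc a).symm
  haveI : IsScalarTower A (MvPolynomial (Fin n) A) B' :=
    IsScalarTower.of_algebraMap_eq fun a => by
      show _ = algebraMap B B' (π (MvPolynomial.C a))
      rw [show π (MvPolynomial.C a) = algebraMap A B a from RingHom.congr_fun hc a,
        ← IsScalarTower.algebraMap_apply]
  haveI : IsScalarTower A' (MvPolynomial (Fin n) A') B' :=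
    IsScalarTower.of_algebraMap_eq fun a => (show _ = pushPres (A' := A') (B' := B') π (MvPolynomial.C a) by
      simp [pushPres])
  haveI : IsScalarTower A (MvPolynomial (Fin n) A) (MvPolynomial (Fin n) A') :=
    IsScalarTower.of_algebraMap_eq fun a => (MvPolynomial.map_C (algebraMap A A') a).symm
  haveI : IsScalarTower A (MvPolynomial (Fin n) A') B' :=
    IsScalarTower.of_algebraMap_eq fun a => by
      show _ = pushPres (A' := A') (B' := B') π (MvPolynomial.C (algebraMap A A' a))
      simp [pushPres, ← IsScalarTower.algebraMap_apply]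
  haveI : Algebra.IsPushout (MvPolynomial (Fin n) A) (MvPolynomial (Fin n) A') B B' :=
    haveI : Algebra.IsPushout A B A' B' := .symm inferInstance
    Algebra.IsPushout.symm ((Algebra.IsPushout.comp_iff (R := A) (S := MvPolynomial (Fin n) A) (R' := A')
      (S' := MvPolynomial (Fin n) A') (T := B) (T' := B')).1 inferInstance)
  haveI : Module.Flat (MvPolynomial (Fin n) A) (MvPolynomial (Fin n) A') :=
    Module.Flat.isBaseChange A (MvPolynomial (Fin n) A) A' (MvPolynomial (Fin n) A')
      (Algebra.IsPushout.out (R := A) (S := MvPolynomial (Fin n) A) (R' := A') (S' := MvPolynomial (Fin n) A'))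
  exact ⟨fun h => PCHom.baseChange (P := MvPolynomial (Fin n) A) (P' := MvPolynomial (Fin n) A') (B := B)
      (C := B') h,
    fun h => PerfModHom.baseChange (P := MvPolynomial (Fin n) A) (P' := MvPolynomial (Fin n) A') (B := B)
      (C := B') h⟩

theorem PCRing.baseChange [Module.Flat A A'] (h : PCRing (algebraMap A B)) : PCRing (algebraMap A' B') := by
  obtain ⟨n, π, hπ, hc, h⟩ := (pcRing_iff _).1 h
  exact (pcRing_iff _).2 ⟨n, pushPres π, pushPres_surjective hπ hc,
    RingHom.ext fun a => by simp [pushPres], (exists_push_instances hc).1 h⟩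

theorem PerfRing.baseChange [Module.Flat A A'] (h : PerfRing (algebraMap A B)) :
    PerfRing (algebraMap A' B') := by
  obtain ⟨n, π, hπ, hc, h⟩ := (perfRing_iff _).1 h
  exact (perfRing_iff _).2 ⟨n, pushPres π, pushPres_surjective hπ hc,
    RingHom.ext fun a => by simp [pushPres], (exists_push_instances hc).2 h⟩

end Ops

end Groth.Agent.PerfMor
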