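import Groth.Agent.PerfMor.Hom

/-!
Locality of pseudo-coherent and perfect ring maps.
-/

set_option autoImplicit false
set_option linter.style.haveILetI false
set_option linter.unusedSectionVars false
universe u

open CategoryTheory CategoryTheory.Limits Groth.Agent.PCohLib Groth.Agent.DRingPC
open TensorProduct

attribute [local instance] HasDerivedCategory.standard

namespace Groth.Agent.PerfMor

variable {A B C : Type u} [CommRing A] [CommRing B] [CommRing C]

/-- A surjection between pseudo-coherent algebras is a pseudo-coherent module map. -/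
lemma pcHom_of_surjective {g : B →+* C} (hg : Function.Surjective g) {f : A →+* B} (hf : PCRing f)
    (h : PCRing (g.comp f)) : PCHom g := by
  obtain ⟨n, π, hπ, hc, hp⟩ := (pcRing_iff f).1 hf
  have hgp : PCHom (g.comp π) := h.pcHom _ (hg.comp hπ) (by rw [RingHom.comp_assoc, hc])
  intro m
  exact NPC.of_iso ((hp.comp_iff g m _).1 (NPC.of_iso (hgp m) (restrictSingle (g.comp π) 0 _).symm))
    (restrictSingle g 0 _)

lemma pcRing_of_bijective (f : A →+* B) (hf : Function.Bijective f) : PCRing f := by
  letI := f.toAlgebra
  haveI : IsLocalization.Away (1 : A) B :=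
    IsLocalization.away_of_isUnit_of_bijective _ isUnit_one hf
  exact (perfRing_away (A := A) (B := B) 1).toPC

lemma perfRing_of_bijective (f : A →+* B) (hf : Function.Bijective f) : PerfRing f := by
  letI := f.toAlgebra
  haveI : IsLocalization.Away (1 : A) B :=
    IsLocalization.away_of_isUnit_of_bijective _ isUnit_one hf
  exact perfRing_away (A := A) (B := B) 1

section Span

variable {n : ℕ} (f : A →+* B) (π : MvPolynomial (Fin n) A →+* B) (hπ : Function.Surjective π)
  (hc : π.comp MvPolynomial.C = f) (h : MvPolynomial (Fin n) A)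

include hπ hc in
/-- Over a basic open of the polynomial ring, the presentation is the localised one. -/
lemma local_piece (hloc : PCRing ((algebraMap B (Localization.Away (π h))).comp f)) :
    (letI := π.toAlgebra
     PCHom (algebraMap (Localization.Away h)
       (Localization.Away h ⊗[MvPolynomial (Fin n) A] B))) ∧
    (PerfRing ((algebraMap B (Localization.Away (π h))).comp f) →
     letI := π.toAlgebra
     PerfModHom (algebraMap (Localization.Away h)
       (Localization.Away h ⊗[MvPolynomial (Fin n) A] B))) := by
  letI := π.toAlgebra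
  let P := MvPolynomial (Fin n) A
  let Ph := Localization.Away h
  let Bh := Localization.Away (π h)
  letI := f.toAlgebra
  haveI : IsScalarTower A P B := IsScalarTower.of_algebraMap_eq fun a => (RingHom.congr_fun hc a).symm
  letI : Algebra Ph Bh := (IsLocalization.Away.map Ph Bh π h).toAlgebra
  haveI : IsScalarTower P Ph Bh := IsScalarTower.of_algebraMap_eq fun p => by
    rw [IsScalarTower.algebraMap_apply P B Bh]
    show algebraMap B Bh (π p) = IsLocalization.Away.map Ph Bh π h (algebraMap P Ph p)
    exact (IsLocalization.map_eq _ p).symm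
  haveI : IsLocalization (Algebra.algebraMapSubmonoid B (Submonoid.powers h)) Bh := by
    rw [show Algebra.algebraMapSubmonoid B (Submonoid.powers h) = Submonoid.powers (π h) from
      Submonoid.map_powers (algebraMap P B) h]
    infer_instance
  haveI : Algebra.IsPushout P B Ph Bh := Algebra.isPushout_of_isLocalization (Submonoid.powers h) Ph B Bh
  haveI : Algebra.IsPushout P Ph B Bh := .symm inferInstance
  let e : Ph ⊗[P] B ≃ₐ[Ph] Bh := Algebra.IsPushout.equiv P Ph B Bh
  have hsurj : Function.Surjective (algebraMap P B) := hπ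
  have hsurj' : Function.Surjective (algebraMap Ph (Ph ⊗[P] B)) := by
    intro z
    induction z using TensorProduct.induction_on with
    | zero => exact ⟨0, map_zero _⟩
    | add x y hx hy =>
      obtain ⟨p, rfl⟩ := hx; obtain ⟨q, rfl⟩ := hy
      exact ⟨p + q, map_add _ _ _⟩
    | tmul a b =>
      obtain ⟨p, rfl⟩ := hsurj b
      exact ⟨p • a, by rw [Algebra.TensorProduct.algebraMap_apply, Algebra.algebraMap_eq_smul_one (A := B),
        ← TensorProduct.smul_tmul]; rfl⟩
  let f' : A →+* Ph := algebraMap A Ph
  have hf' : PCRing f' := by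
    rw [show f' = (algebraMap P Ph).comp (algebraMap A P) from IsScalarTower.algebraMap_eq A P Ph]
    exact (perfRing_of_flat_fp (A := A) (B := P)).toPC.comp (perfRing_away h).toPC
  have hcomp : (algebraMap Ph (Ph ⊗[P] B)).comp f' =
      (e.symm.toRingEquiv.toRingHom).comp ((algebraMap B Bh).comp f) := RingHom.ext fun a => by
    apply e.injective
    show e (algebraMap Ph (Ph ⊗[P] B) (algebraMap A Ph a)) = e (e.symm (algebraMap B Bh (f a)))
    rw [IsScalarTower.algebraMap_apply A P Ph]
    rw [e.apply_symm_apply, e.commutes, ← IsScalarTower.algebraMap_apply, IsScalarTower.algebraMap_apply P B Bh]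
    exact congrArg _ (RingHom.congr_fun hc a)
  have hT : PCRing ((algebraMap Ph (Ph ⊗[P] B)).comp f') := by
    rw [hcomp]; exact hloc.comp (pcRing_of_bijective _ e.symm.bijective)
  have hPC : PCHom (algebraMap Ph (Ph ⊗[P] B)) := pcHom_of_surjective hsurj' hf' hT
  refine ⟨hPC, fun hperf => ?_⟩
  have hT' : PerfRing ((algebraMap Ph (Ph ⊗[P] B)).comp f') := by
    rw [hcomp]; exact hperf.comp (perfRing_of_bijective _ e.symm.bijective)
  rw [show (algebraMap Ph (Ph ⊗[P] B)).comp f' = algebraMap A (Ph ⊗[P] B) from
    (IsScalarTower.algebraMap_eq A Ph (Ph ⊗[P] B)).symm] at hT'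
  obtain ⟨d, hd⟩ := (perfRing_algebraMap.1 hT').2
  have hP := (td_iff_amplitude (d + n) _).1 (td_mvPolynomial n (Ph ⊗[P] B) ((td_iff d _).1 hd))
  have hPh := torAmp_baseChange_flat (A := P) (B := Ph) hP
  let ε : Ph ⊗[P] (Ph ⊗[P] B) ≃ₗ[Ph] Ph ⊗[P] B :=
    IsLocalization.moduleLid (Submonoid.powers h) Ph (Ph ⊗[P] B)
  obtain ⟨E, hz, hE, he⟩ := exists_amplitude_rep (by omega)
    ((isPC'_iff_isPC _ _).1 (PCHom.of_algebra.1 hPC) _) (torAmp_of_iso hPh
      ((DerivedCategory.singleFunctor _ 0).mapIso ε.toModuleIso))
  exact PerfModHom.of_algebra.2 ⟨E, _, _, hz, hE, he⟩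

end Span

lemma PCRing.finiteType {f : A →+* B} (h : PCRing f) : f.FiniteType := by
  letI := f.toAlgebra
  obtain ⟨n, φ, hφ, -⟩ := h
  exact Algebra.FiniteType.iff_quotient_mvPolynomial''.2 ⟨n, φ, hφ⟩

/-- Descent from a principal open cover of the target. -/
lemma span_target (f : A →+* B) (s : Finset B) (hs : Ideal.span (s : Set B) = ⊤)
    (hloc : ∀ g : s, PCRing ((algebraMap B (Localization.Away (g : B))).comp f)) :
    PCRing f ∧ ((∀ g : s, PerfRing ((algebraMap B (Localization.Away (g : B))).comp f)) → PerfRing f) := by
  classical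
  letI := f.toAlgebra
  have hft : f.FiniteType := RingHom.finiteType_ofLocalizationSpanTarget f s hs fun g => (hloc g).finiteType
  obtain ⟨n, φ, hφ⟩ := @exists_presentation_ft A B _ _ f.toAlgebra hft
  let π := φ.toRingHom
  have hc : π.comp MvPolynomial.C = f := RingHom.ext φ.commutes
  letI := π.toAlgebra
  obtain ⟨c, hsum⟩ : ∃ c : s → B, ∑ g, c g * g = 1 :=
    Ideal.mem_span_range_iff_exists_fun.1 (by rw [Subtype.range_coe_subtype]; simpa using (hs ▸ Submodule.mem_top))
  choose cl hcl using fun g : s => hφ (c g)
  choose gl hgl using fun g : s => hφ (g : B)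
  let k : MvPolynomial (Fin n) A := 1 - ∑ g, cl g * gl g
  have hk : π k = 0 := by
    show φ k = 0
    simp only [k, map_sub, map_one, map_sum, map_mul, hcl, hgl, hsum, sub_self]
  let F : Option s → MvPolynomial (Fin n) A := fun o => o.elim k gl
  let F' : Fin (Fintype.card (Option s)) → MvPolynomial (Fin n) A := F ∘ (Fintype.equivFin _).symm
  have hF : Ideal.span (Set.range F') = ⊤ := by
    rw [Set.range_comp, (Fintype.equivFin _).symm.range_eq_univ, Set.image_univ, Ideal.eq_top_iff_one,
      show (1 : MvPolynomial (Fin n) A) = F none + ∑ g, cl g * F (some g) by simp [F, k]]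
    exact add_mem (Ideal.subset_span ⟨none, rfl⟩)
      (Ideal.sum_mem _ fun g _ => Ideal.mul_mem_left _ _ (Ideal.subset_span ⟨some g, rfl⟩))
  have piece : ∀ o : Option s, PCHom (algebraMap (Localization.Away (F o))
      (Localization.Away (F o) ⊗[MvPolynomial (Fin n) A] B)) ∧
      ((∀ g : s, PerfRing ((algebraMap B (Localization.Away (g : B))).comp f)) →
        PerfModHom (algebraMap (Localization.Away (F o))
          (Localization.Away (F o) ⊗[MvPolynomial (Fin n) A] B))) := by
    rintro (_ | g)
    · haveI : Subsingleton (Localization.Away k ⊗[MvPolynomial (Fin n) A] B) := by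
        refine subsingleton_of_forall_eq 0 fun z => ?_
        induction z using TensorProduct.induction_on with
        | zero => rfl
        | tmul a b =>
          obtain ⟨w, hw⟩ := IsLocalization.Away.algebraMap_isUnit (S := Localization.Away k) k
          rw [show a = k • (((w⁻¹ : (Localization.Away k)ˣ) : Localization.Away k) * a) by
            rw [Algebra.smul_def, ← mul_assoc, ← hw, Units.mul_inv, one_mul], TensorProduct.smul_tmul,
            Algebra.smul_def, show algebraMap (MvPolynomial (Fin n) A) B k = 0 from hk, zero_mul,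
            TensorProduct.tmul_zero]
        | add x y hx hy => rw [hx, hy, add_zero]
      have hz : IsZero ((ModuleCat.restrictScalars (algebraMap (Localization.Away k)
          (Localization.Away k ⊗[MvPolynomial (Fin n) A] B))).obj
          (ModuleCat.of _ (Localization.Away k ⊗[MvPolynomial (Fin n) A] B))) :=
        Functor.map_isZero _ (ModuleCat.isZero_of_subsingleton _)
      have hp : PerfModHom (algebraMap (Localization.Away k)
          (Localization.Away k ⊗[MvPolynomial (Fin n) A] B)) := isPerfect_of_isZero (Functor.map_isZero _ hz)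
      exact ⟨hp.toPC, fun _ => hp⟩
    · have hl : PCRing ((algebraMap B (Localization.Away (π (gl g)))).comp f) := by
        have := hloc g
        rwa [← hgl g] at this
      refine ⟨(local_piece f π hφ hc (gl g) hl).1, fun hperf => (local_piece f π hφ hc (gl g) hl).2 ?_⟩
      have := hperf g
      rwa [← hgl g] at this
  let K := (HomologicalComplex.single (ModuleCat.{u} (MvPolynomial (Fin n) A)) (ComplexShape.up ℤ) 0).obj
    (ModuleCat.of (MvPolynomial (Fin n) A) B)
  have back : ∀ j, DRing.toD ((extCx (algebraMap (MvPolynomial (Fin n) A) (Localization.Away (F' j)))).obj K) ≅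
      (DerivedCategory.singleFunctor _ 0).obj ((ModuleCat.restrictScalars (algebraMap (Localization.Away (F' j))
        (Localization.Away (F' j) ⊗[MvPolynomial (Fin n) A] B))).obj
          (ModuleCat.of _ (Localization.Away (F' j) ⊗[MvPolynomial (Fin n) A] B))) := fun j =>
    extendSingle _ _ ≪≫ (DerivedCategory.singleFunctor _ 0).mapIso
      ((extendEquiv (MvPolynomial (Fin n) A) (Localization.Away (F' j)) B).symm ≪≫ selfRestrictIso.symm)
  refine ⟨(pcRing_iff f).2 ⟨n, π, hφ, hc, fun m => ?_⟩, fun hperf => (perfRing_iff f).2 ⟨n, π, hφ, hc, ?_⟩⟩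
  · exact ((NPC_of_cover' (isCover_localization _ hF) K fun j =>
      NPC.of_iso ((piece ((Fintype.equivFin _).symm j)).1 m) (back j).symm).of_iso (singleQIso 0 _)).of_iso
        ((DerivedCategory.singleFunctor _ 0).mapIso selfRestrictIso.symm)
  · exact isPerfect_of_iso (isPerfect_of_cover (isCover_localization _ hF)
      (fun N _ _ h => flat_descent_localization _ hF N h) K fun j =>
        isPerfect_of_iso ((piece ((Fintype.equivFin _).symm j)).2 hperf) (back j).symm)
      (singleQIso 0 _ ≪≫ (DerivedCategory.singleFunctor _ 0).mapIso selfRestrictIso.symm)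

theorem pcRing_ofLocalizationSpanTarget : RingHom.OfLocalizationSpanTarget @PCRing := by
  rw [RingHom.ofLocalizationSpanTarget_iff_finite]
  intro R S _ _ f s hs h
  exact (span_target f s hs h).1

theorem perfRing_ofLocalizationSpanTarget : RingHom.OfLocalizationSpanTarget @PerfRing := by
  rw [RingHom.ofLocalizationSpanTarget_iff_finite]
  intro R S _ _ f s hs h
  exact (span_target f s hs fun g => (h g).toPC).2 h

theorem pcRing_propertyIsLocal : RingHom.PropertyIsLocal @PCRing := by
  have hs : RingHom.StableUnderComposition @PCRing := fun _ _ _ _ _ _ _ _ h₁ h₂ => h₁.comp h₂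
  have ha : RingHom.HoldsForLocalizationAway @PCRing := fun _ _ _ _ _ r _ => (perfRing_away r).toPC
  have hc := hs.stableUnderCompositionWithLocalizationAway ha
  refine ⟨fun R S _ _ f r R' S' _ _ _ _ _ _ h => ?_, pcRing_ofLocalizationSpanTarget,
    pcRing_ofLocalizationSpanTarget.ofLocalizationSpan hc.1, hc.2⟩
  letI := f.toAlgebra
  letI : Algebra R' S' := (IsLocalization.Away.map R' S' f r).toAlgebra
  letI : Algebra R S' := ((algebraMap S S').comp f).toAlgebra
  haveI : IsScalarTower R S S' := IsScalarTower.of_algebraMap_eq fun _ => rfl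
  haveI : IsScalarTower R R' S' := IsScalarTower.of_algebraMap_eq fun x => by
    show algebraMap S S' (f x) = IsLocalization.Away.map R' S' f r (algebraMap R R' x)
    exact (IsLocalization.map_eq _ x).symm
  haveI : IsLocalization (Algebra.algebraMapSubmonoid S (Submonoid.powers r)) S' := by
    rw [show Algebra.algebraMapSubmonoid S (Submonoid.powers r) = Submonoid.powers (f r) from
      Submonoid.map_powers (algebraMap R S) r]
    infer_instance
  haveI : Algebra.IsPushout R S R' S' := Algebra.isPushout_of_isLocalization (Submonoid.powers r) R' S S'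
  haveI : Algebra.IsPushout R R' S S' := .symm inferInstance
  haveI : Module.Flat R R' := IsLocalization.flat R' (Submonoid.powers r)
  exact PCRing.baseChange (A := R) (A' := R') (B := S) (B' := S') h

theorem perfRing_propertyIsLocal : RingHom.PropertyIsLocal @PerfRing := by
  have hs : RingHom.StableUnderComposition @PerfRing := fun _ _ _ _ _ _ _ _ h₁ h₂ => h₁.comp h₂
  have ha : RingHom.HoldsForLocalizationAway @PerfRing := fun _ _ _ _ _ r _ => perfRing_away r
  have hc := hs.stableUnderCompositionWithLocalizationAway ha
  refine ⟨fun R S _ _ f r R' S' _ _ _ _ _ _ h => ?_, perfRing_ofLocalizationSpanTarget,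
    perfRing_ofLocalizationSpanTarget.ofLocalizationSpan hc.1, hc.2⟩
  letI := f.toAlgebra
  letI : Algebra R' S' := (IsLocalization.Away.map R' S' f r).toAlgebra
  letI : Algebra R S' := ((algebraMap S S').comp f).toAlgebra
  haveI : IsScalarTower R S S' := IsScalarTower.of_algebraMap_eq fun _ => rfl
  haveI : IsScalarTower R R' S' := IsScalarTower.of_algebraMap_eq fun x => by
    show algebraMap S S' (f x) = IsLocalization.Away.map R' S' f r (algebraMap R R' x)
    exact (IsLocalization.map_eq _ x).symm
  haveI : IsLocalization (Algebra.algebraMapSubmonoid S (Submonoid.powers r)) S' := by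
    rw [show Algebra.algebraMapSubmonoid S (Submonoid.powers r) = Submonoid.powers (f r) from
      Submonoid.map_powers (algebraMap R S) r]
    infer_instance
  haveI : Algebra.IsPushout R S R' S' := Algebra.isPushout_of_isLocalization (Submonoid.powers r) R' S S'
  haveI : Algebra.IsPushout R R' S S' := .symm inferInstance
  haveI : Module.Flat R R' := IsLocalization.flat R' (Submonoid.powers r)
  exact PerfRing.baseChange (A := R) (A' := R') (B := S) (B' := S') h

end Groth.Agent.PerfMor
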