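import Groth.Agent.PerfMor.Cancel
import Mathlib.AlgebraicGeometry.Morphisms.FlatDescent
import Mathlib.AlgebraicGeometry.Morphisms.FinitePresentation

/-!
Pseudo-coherent and perfect morphisms of schemes.
-/

set_option autoImplicit false
set_option linter.style.haveILetI false
universe u

open CategoryTheory CategoryTheory.Limits AlgebraicGeometry TensorProduct

namespace Groth.Agent.PerfMor

/-- Pseudo-coherent morphisms. -/
def PCMor : MorphismProperty Scheme.{u} := affineLocally @PCRing

/-- Perfect morphisms. -/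
def PerfMor : MorphismProperty Scheme.{u} := affineLocally @PerfRing

instance : HasRingHomProperty PCMor.{u} @PCRing := ⟨pcRing_propertyIsLocal, rfl⟩

instance : HasRingHomProperty PerfMor.{u} @PerfRing := ⟨perfRing_propertyIsLocal, rfl⟩

variable {X Y S : Scheme.{u}}

lemma isPseudoCoherentMor_iff (f : X ⟶ S) : MoreMor.IsPseudoCoherentMor f ↔ PCMor f := by
  rw [PCMor, affineLocally_iff_forall_isAffineOpen]
  exact ⟨fun h V hV U hU e => h U V hU hV e, fun h U V hU hV e => h hV hU e⟩

lemma isPerfectMor_iff (f : X ⟶ S) : MoreMor.IsPerfectMor f ↔ PerfMor f := by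
  rw [PerfMor, affineLocally_iff_forall_isAffineOpen]
  exact ⟨fun h V hV U hU e => h U V hU hV e, fun h U V hU hV e => h hV hU e⟩

lemma pcRing_stableUnderComposition : RingHom.StableUnderComposition @PCRing :=
  fun _ _ _ _ _ _ _ _ h₁ h₂ => h₁.comp h₂

lemma perfRing_stableUnderComposition : RingHom.StableUnderComposition @PerfRing :=
  fun _ _ _ _ _ _ _ _ h₁ h₂ => h₁.comp h₂

instance : MorphismProperty.IsStableUnderComposition PCMor.{u} :=
  HasRingHomProperty.stableUnderComposition pcRing_stableUnderComposition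

instance : MorphismProperty.IsStableUnderComposition PerfMor.{u} :=
  HasRingHomProperty.stableUnderComposition perfRing_stableUnderComposition

lemma pcMor_iff_exists (f : X ⟶ S) : PCMor f ↔
    ∀ x : X, ∃ (V : S.affineOpens) (U : X.affineOpens) (_ : x ∈ U.1) (e : U.1 ≤ f ⁻¹ᵁ V.1),
      PCRing (f.appLE V U e).hom :=
  HasRingHomProperty.iff_exists_appLE
    (pcRing_stableUnderComposition.stableUnderCompositionWithLocalizationAway
      (fun _ _ _ _ _ r _ => (perfRing_away r).toPC)).1

lemma perfMor_iff_exists (f : X ⟶ S) : PerfMor f ↔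
    ∀ x : X, ∃ (V : S.affineOpens) (U : X.affineOpens) (_ : x ∈ U.1) (e : U.1 ≤ f ⁻¹ᵁ V.1),
      PerfRing (f.appLE V U e).hom :=
  HasRingHomProperty.iff_exists_appLE
    (perfRing_stableUnderComposition.stableUnderCompositionWithLocalizationAway
      (fun _ _ _ _ _ r _ => perfRing_away r)).1

/-- A ring-induced property of morphisms which is stable under flat base change at the level of rings is so at
the level of schemes. -/
theorem flat_baseChange {P : MorphismProperty Scheme.{u}}
    {Q : ∀ {R S : Type u} [CommRing R] [CommRing S], (R →+* S) → Prop} [HasRingHomProperty P Q]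
    (hQ : ∀ {R R' A : Type u} [CommRing R] [CommRing R'] [CommRing A] [Algebra R R'] [Algebra R A]
      [Module.Flat R R'], Q (algebraMap R A) → Q (algebraMap R' (R' ⊗[R] A)))
    {X Y S : Scheme.{u}} (f : X ⟶ S) (g : Y ⟶ S) [Flat f] (hg : P g) : P (pullback.fst f g) := by
  have aff : ∀ {R R' : CommRingCat.{u}} (φ : R ⟶ R') {Y : Scheme.{u}} (g : Y ⟶ Spec R),
      Flat (Spec.map φ) → P g → P (pullback.fst (Spec.map φ) g) := by
    intro R R' φ Y g hφ hg
    wlog hY : ∃ T, Y = Spec T generalizing Y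
    · rw [IsZariskiLocalAtSource.iff_of_openCover (P := P)
        (Scheme.Pullback.openCoverOfRight Y.affineCover (Spec.map φ) g)]
      intro i
      have h1 := this (Y.affineCover.f i ≫ g) (IsZariskiLocalAtSource.comp hg (Y.affineCover.f i)) ⟨_, rfl⟩
      simp only [Scheme.Pullback.openCoverOfRight_f]
      have heq : pullback.map (Spec.map φ) (Y.affineCover.f i ≫ g) (Spec.map φ) g (𝟙 _) (Y.affineCover.f i) (𝟙 _)
          (by simp) (by simp) ≫ pullback.fst (Spec.map φ) g = pullback.fst (Spec.map φ) (Y.affineCover.f i ≫ g) :=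
        (pullback.lift_fst _ _ _).trans (Category.comp_id _)
      exact heq ▸ h1
    obtain ⟨T, rfl⟩ := hY
    obtain ⟨ψ, rfl⟩ := Spec.map_surjective g
    rw [HasRingHomProperty.Spec_iff (P := P)] at hg
    have hflat : φ.hom.Flat := (HasRingHomProperty.Spec_iff (P := @Flat)).1 hφ
    algebraize [φ.hom, ψ.hom]
    show P (pullback.fst (Spec.map (CommRingCat.ofHom (algebraMap R R')))
      (Spec.map (CommRingCat.ofHom (algebraMap R T))))
    rw [← pullbackSpecIso_hom_fst R R' T, P.cancel_left_of_respectsIso, HasRingHomProperty.Spec_iff (P := P)]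
    exact hQ hg
  rw [IsZariskiLocalAtTarget.iff_of_openCover (P := P)
    ((S.affineCover.pullback₁ f).bind fun i => Scheme.affineCover _)]
  rintro ⟨i, j⟩
  let T := pullback f (S.affineCover.f i)
  let u : Spec _ ⟶ X := T.affineCover.f j ≫ pullback.fst f (S.affineCover.f i)
  let v : Spec _ ⟶ S.affineCover.X i := T.affineCover.f j ≫ pullback.snd f (S.affineCover.f i)
  show P (pullback.snd (pullback.fst f g) u)
  rw [← pullbackSymmetry_hom_comp_fst, P.cancel_left_of_respectsIso,
    ← pullbackRightPullbackFstIso_hom_fst f g u, P.cancel_left_of_respectsIso]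
  have hw : u ≫ f = v ≫ S.affineCover.f i := by
    simp only [u, v, Category.assoc, pullback.condition]
  have hg' : P (pullback.fst (S.affineCover.f i) g) :=
    IsZariskiLocalAtTarget.of_isPullback (IsPullback.of_hasPullback (S.affineCover.f i) g).flip hg
  obtain ⟨φ, hφ⟩ := Spec.map_surjective v
  have hv : Flat v := inferInstanceAs (Flat (T.affineCover.f j ≫ pullback.snd f (S.affineCover.f i)))
  have := aff φ (pullback.fst (S.affineCover.f i) g) (hφ ▸ hv) hg'
  rw [hφ] at this
  have h2 : P (pullback.fst (v ≫ S.affineCover.f i) g) := by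
    rw [← pullbackRightPullbackFstIso_inv_fst (S.affineCover.f i) g v, P.cancel_left_of_respectsIso]
    exact this
  have h3 : pullback.fst (u ≫ f) g = (pullback.congrHom hw rfl).hom ≫ pullback.fst (v ≫ S.affineCover.f i) g :=
    ((pullback.lift_fst _ _ _).trans (Category.comp_id _)).symm
  rw [h3]
  exact (P.cancel_left_of_respectsIso _ _).2 h2

attribute [local instance] Algebra.TensorProduct.rightAlgebra in
theorem pcMor_baseChange (f : X ⟶ S) (g : Y ⟶ S) [Flat f] (hg : PCMor g) : PCMor (pullback.fst f g) :=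
  flat_baseChange (Q := @PCRing) (fun h => h.baseChange) f g hg

attribute [local instance] Algebra.TensorProduct.rightAlgebra in
theorem perfMor_baseChange (f : X ⟶ S) (g : Y ⟶ S) [Flat f] (hg : PerfMor g) : PerfMor (pullback.fst f g) :=
  flat_baseChange (Q := @PerfRing) (fun h => h.baseChange) f g hg

/-- Descent of a ring-induced property along flat surjective quasi-compact maps. -/
theorem descends {P : MorphismProperty Scheme.{u}}
    {Q : ∀ {R S : Type u} [CommRing R] [CommRing S], (R →+* S) → Prop} [HasRingHomProperty P Q]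
    (hbc : ∀ {X Y S : Scheme.{u}} (f : X ⟶ S) (g : Y ⟶ S) [Flat f], P g → P (pullback.fst f g))
    (hQ : RingHom.CodescendsAlong Q RingHom.FaithfullyFlat) :
    P.DescendsAlong (@Surjective ⊓ @Flat ⊓ @QuasiCompact) := by
  refine IsZariskiLocalAtTarget.descendsAlong _ _ fun {R X Y} f g ⟨⟨hs, hf⟩, hq⟩ h => ?_
  wlog hX : ∃ T, X = Spec T generalizing X
  · have _ : CompactSpace X := by simpa [← quasiCompact_iff_compactSpace f] using hq
    obtain ⟨T, p, hsurj, hp, hT⟩ := X.exists_hom_isAffine_of_isZariskiLocalAtSource @IsLocalIso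
    haveI hp' : Flat p := IsLocalIso.le_of_isZariskiLocalAtSource @Flat _ _ p hp
    haveI hs' := hs; haveI hf' := hf
    refine this ((T.isoSpec.inv ≫ p) ≫ f) ?_ ?_ ?_ ?_ ?_ ?_
    all_goals first
      | infer_instance
      | exact ⟨_, rfl⟩
      | exact ⟨⟨inferInstance, inferInstance⟩, inferInstance⟩
      | (rw [← pullbackRightPullbackFstIso_inv_fst f g _, P.cancel_left_of_respectsIso]; exact hbc _ _ h)
  obtain ⟨T, rfl⟩ := hX
  obtain ⟨φ, rfl⟩ := Spec.map_surjective f
  wlog hY : ∃ U, Y = Spec U generalizing Y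
  · rw [IsZariskiLocalAtSource.iff_of_openCover (P := P) Y.affineCover]
    intro i
    have heq : pullback.fst (Spec.map φ) (Y.affineCover.f i ≫ g) =
        pullback.map _ _ _ _ (𝟙 _) (Y.affineCover.f i) (𝟙 _) (by simp) (by simp) ≫
          pullback.fst (Spec.map φ) g := (pullback.lift_fst _ _ _).symm
    exact this _ (heq ▸ IsZariskiLocalAtSource.comp h _) ⟨_, rfl⟩
  obtain ⟨U, rfl⟩ := hY
  obtain ⟨ψ, rfl⟩ := Spec.map_surjective g
  haveI := hs; haveI := hf
  have hff : φ.hom.FaithfullyFlat := by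
    rw [RingHom.FaithfullyFlat.iff_flat_and_comap_surjective]
    exact ⟨(HasRingHomProperty.Spec_iff (P := @Flat)).1 hf, (Spec.map φ).surjective⟩
  algebraize [φ.hom, ψ.hom]
  rw [HasRingHomProperty.Spec_iff (P := P)]
  refine hQ.algebraMap_tensorProduct (R := R) (S := T) (T := U) _ hff ?_
  change P (pullback.fst (Spec.map <| CommRingCat.ofHom <| algebraMap R T)
    (Spec.map <| CommRingCat.ofHom <| algebraMap R U)) at h
  rwa [← pullbackSpecIso_hom_fst R T U, P.cancel_left_of_respectsIso,
    HasRingHomProperty.Spec_iff (P := P)] at h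

theorem pcMor_descends : (PCMor.{u}).DescendsAlong (@Surjective ⊓ @Flat ⊓ @QuasiCompact) :=
  descends (Q := @PCRing) pcMor_baseChange pcRing_codescendsAlong

theorem perfMor_descends : (PerfMor.{u}).DescendsAlong (@Surjective ⊓ @Flat ⊓ @QuasiCompact) :=
  descends (Q := @PerfRing) perfMor_baseChange perfRing_codescendsAlong

theorem pcMor_of_comp {f : X ⟶ Y} {g : Y ⟶ S} (hfg : PCMor (f ≫ g)) (hg : PCMor g) : PCMor f := by
  refine (pcMor_iff_exists f).2 fun x => ?_
  obtain ⟨W, hW, hgx, -⟩ := TopologicalSpace.Opens.isBasis_iff_nbhd.mp S.isBasis_affineOpens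
    (TopologicalSpace.Opens.mem_top (g (f x)))
  obtain ⟨V, hV, hfx, eV⟩ := TopologicalSpace.Opens.isBasis_iff_nbhd.mp Y.isBasis_affineOpens
    (show f x ∈ g ⁻¹ᵁ W from hgx)
  obtain ⟨U, hU, hx, eU⟩ := TopologicalSpace.Opens.isBasis_iff_nbhd.mp X.isBasis_affineOpens
    (show x ∈ f ⁻¹ᵁ V from hfx)
  refine ⟨⟨V, hV⟩, ⟨U, hU⟩, hx, eU, PCRing.of_comp (HasRingHomProperty.appLE PCMor g hg ⟨W, hW⟩ ⟨V, hV⟩ eV) ?_⟩
  have := HasRingHomProperty.appLE PCMor (f ≫ g) hfg ⟨W, hW⟩ ⟨U, hU⟩
    (eU.trans ((TopologicalSpace.Opens.map f.base).map (homOfLE eV)).le)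
  rw [← CommRingCat.hom_comp]
  convert this using 2
  rw [Scheme.Hom.appLE_comp_appLE]

theorem pcMor_le_lfp {f : X ⟶ S} (h : PCMor f) : LocallyOfFinitePresentation f :=
  HasRingHomProperty.iff_appLE.2 fun V U e => (HasRingHomProperty.appLE PCMor f h V U e).finitePresentation

end Groth.Agent.PerfMor
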